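import Groth.Agent.FBase64.Geometric
import Groth.Prelude.Def_MoreMor
import Mathlib.AlgebraicGeometry.Fiber

/-!
Components of geometric fibres are insensitive to enlarging the separably closed field.
-/

set_option autoImplicit false
set_option linter.style.haveILetI false

open CategoryTheory CategoryTheory.Limits AlgebraicGeometry

namespace Groth.Agent.GeomCount24

universe u

/-- The geometric fibre of a base change is a field extension of a geometric fibre. -/
theorem exists_iso_geomFiber {X Y X' Y' : Scheme.{u}} (f : X ⟶ Y) (f' : X' ⟶ Y') (g' : X' ⟶ X)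
    (g : Y' ⟶ Y) (hc : IsPullback g' f' f g) (y' : Y') :
    ∃ σ : SeparableClosure (Y.residueField (g y')) →+* SeparableClosure (Y'.residueField y'),
      Nonempty (MoreMor.geomFiber f' y' ≅
        pullback (pullback.snd (f.fiberToSpecResidueField (g y'))
          (Spec.map (CommRingCat.ofHom
            (algebraMap (Y.residueField (g y')) (SeparableClosure (Y.residueField (g y')))))))
          (Spec.map (CommRingCat.ofHom σ))) := by
  let K := SeparableClosure (Y.residueField (g y'))
  let K' := SeparableClosure (Y'.residueField y')
  letI : Algebra (Y.residueField (g y')) K' :=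
    ((algebraMap (Y'.residueField y') K').comp (g.residueFieldMap y').hom).toAlgebra
  have : IsSepClosed K' := IsSepClosure.sep_closed (Y'.residueField y')
  let σ : K →ₐ[Y.residueField (g y')] K' := IsSepClosed.lift
  refine ⟨σ.toRingHom, ?_⟩
  let a := Spec.map (CommRingCat.ofHom (algebraMap (Y.residueField (g y')) K))
  let a' := Spec.map (CommRingCat.ofHom (algebraMap (Y'.residueField y') K'))
  let s := Spec.map (CommRingCat.ofHom σ.toRingHom)
  have A : IsPullback
      ((pullback.fst (f'.fiberToSpecResidueField y') a' ≫ f'.fiberι y') ≫ g')
      (pullback.snd (f'.fiberToSpecResidueField y') a') f ((a' ≫ Y'.fromSpecResidueField y') ≫ g) :=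
    ((IsPullback.of_hasPullback (f'.fiberToSpecResidueField y') a').paste_horiz
      (IsPullback.of_hasPullback f' (Y'.fromSpecResidueField y'))).paste_horiz hc
  have B : IsPullback
      (pullback.fst (pullback.snd (f.fiberToSpecResidueField (g y')) a) s ≫
        (pullback.fst (f.fiberToSpecResidueField (g y')) a ≫ f.fiberι (g y')))
      (pullback.snd (pullback.snd (f.fiberToSpecResidueField (g y')) a) s) f
      (s ≫ a ≫ Y.fromSpecResidueField (g y')) :=
    (IsPullback.of_hasPullback (pullback.snd (f.fiberToSpecResidueField (g y')) a) s).paste_horiz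
      ((IsPullback.of_hasPullback (f.fiberToSpecResidueField (g y')) a).paste_horiz
        (IsPullback.of_hasPullback f (Y.fromSpecResidueField (g y'))))
  have heq : (a' ≫ Y'.fromSpecResidueField y') ≫ g = s ≫ a ≫ Y.fromSpecResidueField (g y') := by
    rw [Category.assoc, ← Scheme.Hom.SpecMap_residueFieldMap_fromSpecResidueField, ← Spec.map_comp_assoc,
      ← Spec.map_comp_assoc]
    congr 2
    exact CommRingCat.hom_ext σ.comp_algebraMap.symm
  rw [heq] at A
  exact ⟨A.isoIsPullback _ _ B⟩

variable {k K : Type u} [Field k] [Field K] [IsSepClosed k] {W : Scheme.{u}}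
  (t : W ⟶ Spec (CommRingCat.of k)) (σ : k →+* K)

theorem encard_irreducibleComponents_pullback :
    (irreducibleComponents ↥(pullback t (Spec.map (CommRingCat.ofHom σ)))).encard =
      (irreducibleComponents W).encard := by
  have := FBase64.geometricallyIrreducible_fst t σ
  exact Set.encard_congr
    ((pullback.fst t (Spec.map (CommRingCat.ofHom σ))).irreducibleComponentsEquiv (Scheme.Hom.isOpenMap _))

theorem card_connectedComponents_pullback :
    ENat.card (_root_.ConnectedComponents ↥(pullback t (Spec.map (CommRingCat.ofHom σ)))) =
      ENat.card (_root_.ConnectedComponents W) := by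
  let π := pullback.fst t (Spec.map (CommRingCat.ofHom σ))
  refine ENat.card_congr (Equiv.ofBijective π.continuous.connectedComponentsMap ⟨?_, ?_⟩)
  · intro a b
    obtain ⟨x, rfl⟩ := ConnectedComponents.surjective_coe a
    obtain ⟨y, rfl⟩ := ConnectedComponents.surjective_coe b
    intro h
    have h' : π x ∈ connectedComponent (π y) := by
      rw [← connectedComponent_eq_iff_mem]
      exact ConnectedComponents.coe_eq_coe.1 h
    refine ConnectedComponents.coe_eq_coe'.2 ?_
    exact (FBase64.isConnected_preimage_fst t σ
      (isConnected_connectedComponent (x := π y))).isPreconnected.subset_connectedComponent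
      (show y ∈ π ⁻¹' connectedComponent (π y) from mem_connectedComponent) h'
  · intro c
    obtain ⟨w, rfl⟩ := ConnectedComponents.surjective_coe c
    obtain ⟨x, rfl⟩ := π.surjective w
    exact ⟨x, rfl⟩

end Groth.Agent.GeomCount24
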