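import Groth.Agent.FBase64.Geometric
import Groth.Prelude.Def_MoreMor
import Mathlib.AlgebraicGeometry.Fiber

/-!
Section components commute with base change.
-/

set_option autoImplicit false
set_option linter.style.haveILetI false

open CategoryTheory CategoryTheory.Limits AlgebraicGeometry

namespace Groth.Agent.GeomCount24

universe u

theorem image_connectedComponent {A B : Type*} [TopologicalSpace A] [TopologicalSpace B] {i : A → B}
    (hi : Topology.IsEmbedding i) {F : Set B} (hF : Set.range i = F) (a : A) :
    i '' connectedComponent a = connectedComponentIn F (i a) := by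
  refine ((isPreconnected_connectedComponent.image i hi.continuous.continuousOn).subset_connectedComponentIn
    ⟨a, mem_connectedComponent, rfl⟩ (hF ▸ Set.image_subset_range _ _)).antisymm fun b hb => ?_
  obtain ⟨c, rfl⟩ := hF.ge (connectedComponentIn_subset _ _ hb)
  refine ⟨c, ?_, rfl⟩
  have h : IsPreconnected (i ⁻¹' connectedComponentIn F (i a)) := by
    rw [← hi.isInducing.isPreconnected_image,
      Set.image_preimage_eq_of_subset (hF ▸ connectedComponentIn_subset _ _)]
    exact isPreconnected_connectedComponentIn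
  exact h.subset_connectedComponent (mem_connectedComponentIn (hF ▸ Set.mem_range_self a)) hb

theorem preimage_connectedComponent_fibre {X Y X' Y' : Scheme.{u}} (f : X ⟶ Y) (s : Y ⟶ X) (hs : s ≫ f = 𝟙 Y)
    (f' : X' ⟶ Y') (g' : X' ⟶ X) (g : Y' ⟶ Y) (hc : IsPullback g' f' f g)
    (s' : Y' ⟶ X') (hs' : s' ≫ f' = 𝟙 Y') (hs'g : s' ≫ g' = g ≫ s) (y' : Y') (x' : X') (hx : f' x' = y') :
    x' ∈ connectedComponentIn (f' ⁻¹' {y'}) (s' y') ↔
      g' x' ∈ connectedComponentIn (f ⁻¹' {g y'}) (s (g y')) := by
  let σ := Spec.map (g.residueFieldMap y')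
  have hσ : σ ≫ Y.fromSpecResidueField (g y') = Y'.fromSpecResidueField y' ≫ g :=
    Scheme.Hom.SpecMap_residueFieldMap_fromSpecResidueField _ _
  let t := f.fiberToSpecResidueField (g y')
  let p : f'.fiber y' ⟶ f.fiber (g y') := pullback.lift (f'.fiberι y' ≫ g') (f'.fiberToSpecResidueField y' ≫ σ) (by
    rw [Category.assoc, hc.w, ← Category.assoc, Scheme.Hom.fiber_fac, Category.assoc, Category.assoc, hσ])
  have hp1 : p ≫ f.fiberι (g y') = f'.fiberι y' ≫ g' := pullback.lift_fst _ _ _
  have hp2 : p ≫ t = f'.fiberToSpecResidueField y' ≫ σ := pullback.lift_snd _ _ _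
  have H : IsPullback p (f'.fiberToSpecResidueField y') t σ := by
    refine IsPullback.of_right (h₁₂ := f.fiberι (g y')) (v₁₃ := f) (h₂₂ := Y.fromSpecResidueField (g y'))
      ?_ hp2 (IsPullback.of_hasPullback f (Y.fromSpecResidueField (g y')))
    rw [hp1, hσ]
    exact (IsPullback.of_hasPullback f' (Y'.fromSpecResidueField y')).paste_horiz hc
  let a : Spec (Y.residueField (g y')) ⟶ f.fiber (g y') :=
    pullback.lift (Y.fromSpecResidueField (g y') ≫ s) (𝟙 _) (by simp [hs])
  let a' : Spec (Y'.residueField y') ⟶ f'.fiber y' :=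
    pullback.lift (Y'.fromSpecResidueField y' ≫ s') (𝟙 _) (by simp [hs'])
  let o : ↥(Spec (Y.residueField (g y'))) := IsLocalRing.closedPoint _
  let o' : ↥(Spec (Y'.residueField y')) := IsLocalRing.closedPoint _
  have ha : f.fiberι (g y') (a o) = s (g y') := by
    rw [← Scheme.Hom.comp_apply, show a ≫ f.fiberι (g y') = _ from pullback.lift_fst _ _ _, Scheme.Hom.comp_apply,
      Scheme.fromSpecResidueField_apply]
  have ha' : f'.fiberι y' (a' o') = s' y' := by
    rw [← Scheme.Hom.comp_apply, show a' ≫ f'.fiberι y' = _ from pullback.lift_fst _ _ _, Scheme.Hom.comp_apply,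
      Scheme.fromSpecResidueField_apply]
  have hpa : p (a' o') = a o := (f.fiberι (g y')).isEmbedding.injective (by
    rw [← Scheme.Hom.comp_apply, hp1, Scheme.Hom.comp_apply, ha', ha, ← Scheme.Hom.comp_apply, hs'g,
      Scheme.Hom.comp_apply])
  have hpre : _root_.IsConnected (p ⁻¹' connectedComponent (a o)) := by
    have : GeometricallyConnected (a ≫ t) := by
      rw [show a ≫ t = 𝟙 _ from pullback.lift_snd _ _ _]
      have : GeometricallyIrreducible (𝟙 (Spec (Y.residueField (g y')))) := by
        have h := FBase64.geometricallyIrreducible_specMap (k := Y.residueField (g y')) (L := Y.residueField (g y'))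
          (Subsingleton.elim _ _)
        rwa [show algebraMap (Y.residueField (g y')) (Y.residueField (g y')) = RingHom.id _ from rfl,
          CommRingCat.ofHom_id, Spec.map_id] at h
      exact FBase64.geometricallyConnected_of_geometricallyIrreducible _
    have h1 := FBase64.isConnected_preimage_of_geometricallyConnected_source (k := Y.residueField (g y')) t a
      (isPreconnected_connectedComponent (x := a o))
      (by rintro _ ⟨o₁, rfl⟩; rw [Subsingleton.elim (α := PrimeSpectrum _) o₁ o]; exact mem_connectedComponent)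
      o (g.residueFieldMap y').hom
    have h2 : p = H.isoPullback.hom ≫ pullback.fst t σ := H.isoPullback_hom_fst.symm
    rw [h2]
    show _root_.IsConnected (Scheme.Hom.homeomorph H.isoPullback.hom ⁻¹' (pullback.fst t σ ⁻¹' connectedComponent (a o)))
    exact (Homeomorph.isConnected_preimage _).2 h1
  have hcc : p ⁻¹' connectedComponent (a o) = connectedComponent (a' o') :=
    (hpre.isPreconnected.subset_connectedComponent (show a' o' ∈ p ⁻¹' connectedComponent (a o) by
      rw [Set.mem_preimage, hpa]; exact mem_connectedComponent)).antisymm fun w hw => by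
      rw [Set.mem_preimage, ← hpa]
      exact p.continuous.image_connectedComponent_subset _ ⟨w, hw, rfl⟩
  obtain ⟨w, hw⟩ := (f'.range_fiberι y').ge hx
  subst hw
  rw [← ha', ← ha, ← image_connectedComponent (f'.fiberι y').isEmbedding (f'.range_fiberι y'),
    ← image_connectedComponent (f.fiberι (g y')).isEmbedding (f.range_fiberι (g y')), ← Scheme.Hom.comp_apply,
    ← hp1, Scheme.Hom.comp_apply, (f'.fiberι y').isEmbedding.injective.mem_set_image,
    (f.fiberι (g y')).isEmbedding.injective.mem_set_image, ← hcc, Set.mem_preimage]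

theorem sectionComponents_baseChange {X Y X' Y' : Scheme.{u}} (f : X ⟶ Y) (s : Y ⟶ X) (hs : s ≫ f = 𝟙 Y)
    (f' : X' ⟶ Y') (g' : X' ⟶ X) (g : Y' ⟶ Y) (hc : IsPullback g' f' f g)
    (s' : Y' ⟶ X') (hs' : s' ≫ f' = 𝟙 Y') (hs'g : s' ≫ g' = g ≫ s) :
    MoreMor.sectionComponents f' s' = g' ⁻¹' MoreMor.sectionComponents f s := by
  ext x'
  have h := preimage_connectedComponent_fibre f s hs f' g' g hc s' hs' hs'g (f' x') x' rfl
  have e : f (g' x') = g (f' x') := by rw [← Scheme.Hom.comp_apply, hc.w, Scheme.Hom.comp_apply]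
  show x' ∈ connectedComponentIn _ _ ↔ g' x' ∈ connectedComponentIn _ _
  rw [e]
  exact h

end Groth.Agent.GeomCount24
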